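import Groth.Agent.AcycCxLib.RelExtCoh
import Groth.Agent.HomTwistLib.Main
import Groth.Agent.PnCohLib.EmbeddedVan
import Groth.Agent.Dual3Lib.ExtHH
import Groth.Agent.ExtLinLib.Basic
import Groth.Prelude.Def_KLin
import Mathlib.CategoryTheory.Linear.Yoneda

/-!
# Ext of a large twist is the module of sections of the Ext sheaf
-/

set_option autoImplicit false
set_option linter.style.haveILetI false
set_option linter.unusedSectionVars false
set_option backward.isDefEq.respectTransparency false
set_option backward.isDefEq.respectTransparency.types false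
set_option maxHeartbeats 1000000

universe u

open CategoryTheory CategoryTheory.Limits AlgebraicGeometry Opposite CategoryTheory.Abelian
open CohCmpLib (homMod curryMod evMod curryMod_comp hom_homMod_ext)
open KFlatLib (tens shTm)
open Groth.Agent.AcycCxLib (sh isFlasque_sh)
open Groth.Agent.HomTwistLib (tR homTwistIso)

attribute [local instance] HasDerivedCategory.standard

noncomputable section

namespace Groth.Agent.ExtTwistSecLib

variable {X : Scheme.{u}}

local notation "𝒪" => Coh.structureModule X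

theorem tens_smulModΓ (F N : X.Modules) (c : Coh.Γtop X) :
    ((DCoh.tensorBi (X := X)).obj F).map (Formal.smulModΓ N c) = Formal.smulModΓ (tens F N) c := by
  refine KFlatLib.tens_hom_ext fun U m n => ?_
  refine (KFlatLib.tensorBi_map₂_shTm F (Formal.smulModΓ N c) m n).trans ?_
  rw [KLin.smulModΓ_app_apply]
  have h := AmpleLib.shT_smul (M := F) (N := N) 1 (X.presheaf.map (homOfLE (le_top : U ≤ ⊤)).op c) m n
  rw [one_smul, one_mul] at h
  exact h.trans (KLin.smulModΓ_app_apply _ _ _ _).symm

/-- `F ⊗ O ≅ F`. -/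
def uR (F : X.Modules) : tens F 𝒪 ≅ F := KFlatLib.tensSwap 𝒪 F ≪≫ KFlatLib.tensUnitIso F

variable {A : Type u} [CommRing A] [X.Over (Spec (CommRingCat.of A))]

/-- Currying against the structure sheaf. -/
def curryR (F P : X.Modules) : (F ⟶ P) →ₗ[A] (𝒪 ⟶ homMod F P) where
  toFun φ := curryMod ((uR F).hom ≫ φ)
  map_add' φ ψ := by
    refine hom_homMod_ext ?_
    rw [curryMod_comp, Preadditive.comp_add, Functor.map_add, Preadditive.add_comp, curryMod_comp,
      curryMod_comp]
  map_smul' c φ := by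
    refine hom_homMod_ext ?_
    rw [curryMod_comp, RingHom.id_apply, KLin.smul_def, KLin.smul_def, Functor.map_comp, Category.assoc,
      curryMod_comp, Formal.smulMod, Formal.smulMod, tens_smulModΓ, ← Category.assoc, ← Category.assoc]
    exact congrArg (fun t => t ≫ φ) (KLin.comp_smulModΓ (uR F).hom _)

theorem curryR_bijective (F P : X.Modules) : Function.Bijective (curryR (A := A) F P) :=
  (HomCohLib.curryEquiv F 𝒪 P).bijective.comp
    ((uR F).homFromEquiv.symm.bijective : Function.Bijective (fun φ : F ⟶ P => (uR F).hom ≫ φ))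

variable (F : X.Modules) [ModSite.HasSheafHom (O := X.sheaf) F]

/-- Homomorphisms are sections of the sheaf of homomorphisms. -/
def fromF (P : X.Modules) : (F ⟶ P) ≃ₗ[A] (𝒪 ⟶ (sh F).obj P) :=
  LinearEquiv.ofBijective (curryR (A := A) F P) (curryR_bijective F P) ≪≫ₗ
    Linear.homCongr A (Iso.refl 𝒪) ((ExtShLib.shIso F).app P).symm

theorem fromF_comp {P Q : X.Modules} (φ : F ⟶ P) (g : P ⟶ Q) :
    fromF (A := A) F Q (φ ≫ g) = fromF (A := A) F P φ ≫ (sh F).map g := by
  show 𝟙 _ ≫ curryR (A := A) F Q (φ ≫ g) ≫ (ExtShLib.shIso F).inv.app Q =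
    (𝟙 _ ≫ curryR (A := A) F P φ ≫ (ExtShLib.shIso F).inv.app P) ≫ (sh F).map g
  have h : curryR (A := A) F Q (φ ≫ g) = curryR (A := A) F P φ ≫ HomCohLib.mapR F g := by
    refine hom_homMod_ext ?_
    show ((DCoh.tensorBi (X := X)).obj F).map (curryMod ((uR F).hom ≫ φ ≫ g)) ≫ evMod F Q =
      ((DCoh.tensorBi (X := X)).obj F).map (curryMod ((uR F).hom ≫ φ) ≫ HomCohLib.mapR F g) ≫ evMod F Q
    rw [curryMod_comp, Functor.map_comp, Category.assoc, HomCohLib.mapR, curryMod_comp, ← Category.assoc,
      ← Category.assoc, curryMod_comp, Category.assoc]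
  have hn := (ExtShLib.shIso F).inv.naturality g
  rw [PnDualLib.homFun_map] at hn
  rw [Category.id_comp, Category.id_comp, h, Category.assoc, Category.assoc, hn]

variable (X A) in
/-- Global sections, linearly. -/
abbrev secFun : X.Modules ⥤ ModuleCat.{u} A := (linearCoyoneda A X.Modules).obj (op 𝒪)

instance preservesFiniteLimits_secFun : PreservesFiniteLimits (secFun X A) := by
  haveI : PreservesLimitsOfSize.{0, 0} (secFun X A ⋙ forget (ModuleCat.{u} A)) :=
    inferInstanceAs (PreservesLimitsOfSize.{0, 0} (coyoneda.obj (op (Coh.structureModule X))))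
  haveI : PreservesLimitsOfSize.{0, 0} (secFun X A) :=
    preservesLimits_of_reflects_of_preserves (secFun X A) (forget (ModuleCat.{u} A))
  infer_instance

omit [ModSite.HasSheafHom (O := X.sheaf) F] in
variable (A) in
/-- `Ext(O, M) = H(X, M)`, linearly. -/
def extHHLin [HasExt.{u} X.Modules] (M : X.Modules) (n : ℕ) : Ext 𝒪 M n ≃ₗ[A] Coh.HH X M n :=
  { Dual3Lib.extHHEquiv M n with
    map_smul' := fun a x => by
      show Dual3Lib.extHH M n (a • x) = a • Dual3Lib.extHH M n x
      have h : a • x = x.comp (Ext.mk₀ (Formal.smulMod A M a)) (add_zero n) := by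
        rw [← KLin.smul_id, Ext.mk₀_smul, Ext.comp_smul, Ext.comp_mk₀_id]
      rw [h, Dual3Lib.extHH_natural]
      rfl }

omit [ModSite.HasSheafHom (O := X.sheaf) F] in
theorem isZero_rightDerived_secFun [HasExt.{u} X.Modules] [HasInjectiveResolutions X.Modules] (M : X.Modules) (q : ℕ)
    (h : Subsingleton (Coh.HH X M q)) : IsZero (((secFun X A).rightDerived q).obj M) := by
  let J := InjectiveResolution.of M
  obtain ⟨e⟩ := ExtLinLib.nonempty_homology_iso_ext (k := A) (X := 𝒪) J
    (((secFun X A).mapHomologicalComplex _).obj J.cocomplex) (fun n => LinearEquiv.refl A _) (fun n x => rfl) q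
  haveI : Subsingleton (Ext 𝒪 M q) := (extHHLin A M q).toEquiv.subsingleton
  exact (ModuleCat.isZero_of_subsingleton _).of_iso (J.isoRightDerivedObj (secFun X A) q ≪≫ e)

theorem nonempty_extSh_twist [HasInjectiveResolutions X.Modules] (G : X.Modules) {E : X.Modules}
    (hE : FlatMod.IsFinLocFree E) [(sh F).Additive] (q : ℕ) :
    Nonempty (((sh F).rightDerived q).obj (CohB1.tensorMod G E) ≅
      CohB1.tensorMod (((sh F).rightDerived q).obj G) E) := by
  haveI := HomTwistLib.preservesHomology_tR hE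
  haveI := HomTwistLib.preservesInjective_tR hE
  let ν : tR E ⋙ sh F ≅ sh F ⋙ tR E :=
    Functor.isoWhiskerLeft _ (ExtShLib.shIso F) ≪≫ homTwistIso F hE ≪≫
      Functor.isoWhiskerRight (ExtShLib.shIso F).symm (tR E)
  exact ⟨((RightDerCompLib.rightDerivedExactComp (tR E) (sh F) q).app G).symm ≪≫
    (RightDerCompLib.rightDerivedCongr ν q).app G ≪≫
    (RightDerCompLib.rightDerivedCompExact (sh F) (tR E) q).app G⟩

theorem exists_extTwist_sections [IsNoetherianRing A] {n : ℕ} (ι : X ⟶ CohB1.ProjSpace n A) [IsClosedImmersion ι]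
    (hι : ι ≫ CohB1.ProjSpace.toSpec n A = X ↘ Spec (CommRingCat.of A))
    [HasExt.{u} X.Modules] (G : X.Modules) (hF : Coh.IsCoh F) (hG : Coh.IsCoh G)
    [HasInjectiveResolutions (ModSite.Mod X.sheaf)] (i : ℕ) :
    ∃ d₀ : ℕ, ∀ d : ℕ, d₀ ≤ d →
      Nonempty (Ext F (CohB1.tensorMod G ((Scheme.Modules.pullback ι).obj (Twist.twistProjSpace n A (d : ℤ)))) i ≃ₗ[A]
        Coh.HH X ((ModSite.extSh (O := X.sheaf) F i).obj
          (CohB1.tensorMod G ((Scheme.Modules.pullback ι).obj (Twist.twistProjSpace n A (d : ℤ))))) 0) := by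
  haveI : HasInjectiveResolutions X.Modules := ‹HasInjectiveResolutions (ModSite.Mod X.sheaf)›
  haveI : IsProper (CohB1.ProjSpace.toSpec n A) := StratLib.isProper_toSpec n A
  haveI : IsLocallyNoetherian X := LocallyOfFiniteType.isLocallyNoetherian (ι ≫ CohB1.ProjSpace.toSpec n A)
  haveI : (sh F).Additive := (ModSite.sheafHomAdj (O := X.sheaf) F).right_adjoint_additive
  let S := secFun X A
  have hb : ∀ b : ℕ, ∃ N : ℤ, ∀ m : ℤ, N ≤ m → ∀ p : ℕ, 0 < p →
      Subsingleton (Coh.HH X (CohB1.tensorMod (((sh F).rightDerived b).obj G)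
        ((Scheme.Modules.pullback ι).obj (Twist.twistProjSpace n A m))) p) := fun b =>
    PnCohLib.exists_vanishing_embedded ι _ (Groth.Agent.ExtCohLib.isCoh_extSh X F G hF hG b)
  choose N hN using hb
  refine ⟨(Finset.range (i + 1)).sup fun b => (N b).toNat, fun d hd => ?_⟩
  let L := (Scheme.Modules.pullback ι).obj (Twist.twistProjSpace n A (d : ℤ))
  have hL : FlatMod.IsFinLocFree L :=
    CurveVBLib.isFinLocFree_of_rank (CurvLib.locFree_of_isInvertible
      (AmpleDevLib.isInvertible_pb ι (PicPnLib.twist_inv n A (d : ℤ))))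
  let G' := CohB1.tensorMod G L
  let J := InjectiveResolution.of G'
  let K : CochainComplex X.Modules ℕ := ((sh F).mapHomologicalComplex _).obj J.cocomplex
  have hK : ∀ m q, IsZero ((S.rightDerived (q + 1)).obj (K.X m)) := fun m q => by
    refine isZero_rightDerived_secFun (K.X m) (q + 1) ?_
    exact @Equiv.subsingleton _ _ (QCohLib.hEquiv ((QCohLib.toAbF X).obj (K.X m)) (q + 1)).toEquiv
      (@QCohLib.subsingleton_of_isFlasque _ q _ (isFlasque_sh F (J.cocomplex.X m)) ⊤)
  have hH : ∀ b ≤ i, ∀ q, IsZero ((S.rightDerived (q + 1)).obj (K.homology b)) := fun b hbi q => by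
    obtain ⟨e⟩ := nonempty_extSh_twist F G hL b
    refine isZero_rightDerived_secFun _ (q + 1) (SerreVanLib.subsingleton_HH_of_iso
      ((J.isoRightDerivedObj (sh F) b).symm ≪≫ e) (q + 1) (hN b d ?_ (q + 1) (Nat.succ_pos q)))
    have h1 : (N b).toNat ≤ d :=
      (Finset.le_sup (f := fun b => (N b).toNat) (Finset.mem_range.2 (Nat.lt_succ_of_le hbi))).trans hd
    omega
  obtain ⟨h⟩ := AcycCxLib.nonempty_homology_iso S hK hH i le_rfl
  obtain ⟨e⟩ := ExtLinLib.nonempty_homology_iso_ext (k := A) (X := F) J ((S.mapHomologicalComplex _).obj K)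
    (fun m => (fromF (A := A) F (J.cocomplex.X m)).symm) (fun m x => by
      apply (fromF (A := A) F (J.cocomplex.X (m + 1))).injective
      refine (LinearEquiv.apply_symm_apply (fromF (A := A) F (J.cocomplex.X (m + 1))) _).trans ?_
      refine Eq.trans ?_ (fromF_comp (A := A) F _ _).symm
      exact congrArg (fun t => t ≫ (sh F).map (J.cocomplex.d m (m + 1)))
        (LinearEquiv.apply_symm_apply (fromF (A := A) F (J.cocomplex.X m)) x).symm) i
  let e0 : (secFun X A).obj (K.homology i) ≅ (secFun X A).obj (((sh F).rightDerived i).obj G') :=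
    S.mapIso (J.isoRightDerivedObj (sh F) i).symm
  exact ⟨(e0.symm ≪≫ h ≪≫ e).toLinearEquiv.symm ≪≫ₗ (Ext.linearEquiv₀ (R := A)).symm ≪≫ₗ
    extHHLin A (((sh F).rightDerived i).obj G') 0⟩

end Groth.Agent.ExtTwistSecLib

end
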